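import Groth.Agent.Lib.RHomInj22.Trunc
import Groth.Agent.Lib.OX.CohRHom

/-! # `RHom` into bounded complexes of injectives: coherence and bounds for unbounded sources -/

set_option autoImplicit false
set_option maxHeartbeats 1000000
universe u

open CategoryTheory CategoryTheory.Limits AlgebraicGeometry HomologicalComplex GrothLib.OX

attribute [local instance] HasDerivedCategory.standard

namespace GrothLib.RHomInj22

variable {X : Scheme.{u}}

/-- A bounded complex of injectives. -/
structure BddInj (I : CochainComplex X.Modules ℤ) (a b : ℤ) : Prop where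
  injective : ∀ i, Injective (I.X i)
  zero : ∀ i, i < a ∨ b < i → IsZero (I.X i)

theorem BddInj.isKInjective {I : CochainComplex X.Modules ℤ} {a b : ℤ} (h : BddInj I a b) : I.IsKInjective := by
  haveI : I.IsStrictlyGE a := (CochainComplex.isStrictlyGE_iff I a).2 fun i hi => h.zero i (Or.inl hi)
  haveI := h.injective
  exact CochainComplex.isKInjective_of_injective I a

theorem BddInj.isGE {I : CochainComplex X.Modules ℤ} {a b : ℤ} (h : BddInj I a b) :
    (DerivedCategory.Q.obj I).IsGE a := by
  haveI : I.IsStrictlyGE a := (CochainComplex.isStrictlyGE_iff I a).2 fun i hi => h.zero i (Or.inl hi)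
  exact (DerivedCategory.isGE_Q_obj_iff I a).2 inferInstance

theorem exists_bddInj {I : CochainComplex X.Modules ℤ} (hinj : ∀ i, Injective (I.X i))
    (hbdd : ∃ a b : ℤ, ∀ i : ℤ, (i < a ∨ b < i) → IsZero (I.X i)) : ∃ a b, BddInj I a b :=
  let ⟨a, b, h⟩ := hbdd
  ⟨a, b, hinj, h⟩

/-- Coherence, for a source with coherent cohomology, bounded or not. -/
theorem isCohD_RSheafHom_of_bddInj [IsLocallyNoetherian X] (C : CochainComplex X.Modules ℤ) [DCoh.HasLTensorCx C] [DCoh.HasRSheafHom C]
    (hC : DCoh.IsCohD (DerivedCategory.Q.obj C)) {I : CochainComplex X.Modules ℤ} {a b : ℤ} (hI : BddInj I a b)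
    (hIc : DCoh.IsCohD (DerivedCategory.Q.obj I)) :
    DCoh.IsCohD ((DCoh.RSheafHom C).obj (DerivedCategory.Q.obj I)) := fun j => by
  haveI := hI.isKInjective
  haveI := hI.isGE
  obtain ⟨P, _, _, hP, hPH, ⟨e⟩⟩ :=
    exists_iso_HD_RSheafHom_trunc C I (fun i hi => hI.zero i (Or.inr hi)) (b - j + 1) j (by omega)
  have hPc : DCoh.IsCohD (DerivedCategory.Q.obj P) := fun i => by
    rcases hPH i with h | ⟨⟨h⟩⟩
    · exact isCoh_of_isZero h
    · exact QCoh.isCoh_of_iso h.symm (hC _)
  exact QCoh.isCoh_of_iso e.symm (isCohD_RSheafHom P (b - j + 1) hPc a hIc (j + 1))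

/-- Bounded below sources give values bounded above. -/
theorem exists_isLE_RSheafHom (C : CochainComplex X.Modules ℤ) [DCoh.HasLTensorCx C] [DCoh.HasRSheafHom C] (c : ℤ)
    (hC : ∀ i, i < c → IsZero (DCoh.HD (DerivedCategory.Q.obj C) i)) {I : CochainComplex X.Modules ℤ} {a b : ℤ}
    (hI : BddInj I a b) (i : ℤ) (hi : b - c < i) :
    IsZero (DCoh.HD ((DCoh.RSheafHom C).obj (DerivedCategory.Q.obj I)) i) := by
  haveI := hI.isKInjective
  exact isZero_HD_RSheafHom_of_gt C (n := c) (fun k hk => (hC k hk).of_iso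
    ((DerivedCategory.homologyFunctorFactors _ k).app C).symm) I (fun k hk => hI.zero k (Or.inr hk)) i hi

/-- Bounded above sources give values bounded below. -/
theorem exists_isGE_RSheafHom (C : CochainComplex X.Modules ℤ) [DCoh.HasLTensorCx C] [DCoh.HasRSheafHom C] (c : ℤ)
    (hC : ∀ i, c < i → IsZero (DCoh.HD (DerivedCategory.Q.obj C) i)) {I : CochainComplex X.Modules ℤ} {a b : ℤ}
    (hI : BddInj I a b) (i : ℤ) (hi : i < a - c) :
    IsZero (DCoh.HD ((DCoh.RSheafHom C).obj (DerivedCategory.Q.obj I)) i) := by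
  haveI := hI.isGE
  exact isZero_HD_RSheafHom_of_lt C (c := c) (fun k hk => (hC k hk).of_iso
    ((DerivedCategory.homologyFunctorFactors _ k).app C).symm) _ a i hi

end GrothLib.RHomInj22
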