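import Groth.Agent.Lib.RHomInj22.TildeHom
import Groth.Agent.Lib.OX.AffineLocal
import Groth.Agent.Lib.DCxRing.FromSingle
import Groth.Agent.Lib.DCxRHom.Rep

/-! # Affine duality: `RHom` of associated sheaves into a complex of finite injective dimension -/

set_option autoImplicit false
set_option maxHeartbeats 1000000
universe u

open CategoryTheory CategoryTheory.Limits AlgebraicGeometry HomologicalComplex GrothLib.OX

attribute [local instance] HasDerivedCategory.standard

namespace GrothLib.RHomInj22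

variable {X : Scheme.{u}}

/-- Quasi-coherence, for a source with coherent cohomology and quasi-coherent bounded injectives. -/
theorem isQCohD_RSheafHom_of_bddInj [IsLocallyNoetherian X] (C : CochainComplex X.Modules ℤ) [DCoh.HasLTensorCx C]
    [DCoh.HasRSheafHom C] (hC : DCoh.IsCohD (DerivedCategory.Q.obj C)) {I : CochainComplex X.Modules ℤ} {a b : ℤ}
    (hI : BddInj I a b) (hIq : DCoh.IsQCohD (DerivedCategory.Q.obj I)) :
    DCoh.IsQCohD ((DCoh.RSheafHom C).obj (DerivedCategory.Q.obj I)) := fun j => by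
  haveI := hI.isKInjective
  haveI := hI.isGE
  obtain ⟨P, _, _, hP, hPH, ⟨e⟩⟩ :=
    exists_iso_HD_RSheafHom_trunc C I (fun i hi => hI.zero i (Or.inr hi)) (b - j + 1) j (by omega)
  have hPc : DCoh.IsCohD (DerivedCategory.Q.obj P) := fun i => by
    rcases hPH i with h | ⟨⟨h⟩⟩
    · exact isCoh_of_isZero h
    · exact QCoh.isCoh_of_iso h.symm (hC _)
  exact isQCoh_of_iso e.symm (isQCoh_HD_RSheafHom_of_pseudo P (a - j - 2)
    (isPseudoCoherentD_of_isCohD hPc (b - j + 1) _) hIq a
    (fun m hm => DerivedCategory.isZero_of_isGE _ a m hm) (j + 1) (by omega))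

variable {R : CommRingCat.{u}}

instance additive_specΓ : (moduleSpecΓFunctor (R := R)).Additive := tilde.adjunction.right_adjoint_additive

/-- On complexes, sections of `Hom(P~, I~)` are `Hom(P, I)`. -/
theorem nonempty_sections_homCx (P I : DRing.Cx R) :
    Nonempty (((moduleSpecΓFunctor (R := R)).mapHomologicalComplex (ComplexShape.up ℤ)).obj
        ((homCx ((tCx R).obj P)).obj ((tCx R).obj I)) ≅ DRing.homCx P I) := by
  let aT := KInj.mapComplexAdj (tilde.adjunction (R := R)) (ComplexShape.up ℤ)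
  let a₁ := (tensAdj P).comp aT
  let a₂ := aT.comp (homCxAdj ((tCx R).obj P))
  let θ : tensA P ⋙ tCx R ≅ tCx R ⋙ tensR ((tCx R).obj P) :=
    NatIso.ofComponents (fun M => tildeTens R M P) (fun φ => tildeTens_natural₁ φ P)
  let u := (Adjunction.rightAdjointUniq (a₁.ofNatIsoLeft θ) a₂).app ((tCx R).obj I)
  haveI : IsIso aT.unit := by
    haveI : ∀ M, IsIso (aT.unit.app M) := fun M => by
      haveI : ∀ n, IsIso ((aT.unit.app M).f n) := fun n => by
        simp only [aT, KInj.mapComplexAdj_unit_app_f]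
        exact ((asIso (tilde.adjunction (R := R)).unit).app (M.X n)).isIso_hom
      exact HomologicalComplex.Hom.isIso_of_components _
    exact NatIso.isIso_of_isIso_app _
  exact ⟨u.symm ≪≫ (DRing.homCxFunctor P).mapIso (asIso (aT.unit.app I)).symm⟩

/-- **`RHom(K~, L~) = RHom(K, L)~`** for finite cohomology and finite injective dimension. -/
theorem nonempty_RSheafHom_tilde [IsNoetherianRing R] [PreservesFiniteLimits (tilde.functor R)] (K : DRing.Cx R)
    (hK : ∀ i : ℤ, Module.Finite R (Dual.HD R (DRing.toD K) i)) [DRing.HasRHomCx K] (L : Dual.D R)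
    (hL : DRing.HasFiniteInjDim R L) (E : CochainComplex (Spec R).Modules ℤ)
    (e : DerivedCategory.Q.obj E ≅ (DCoh.tildeD R).obj (DRing.toD K)) [DCoh.HasLTensorCx E] [DCoh.HasRSheafHom E] :
    Nonempty ((DCoh.RSheafHom E).obj ((DCoh.tildeD R).obj L) ≅ (DCoh.tildeD R).obj ((DRing.RHomCx K).obj L)) := by
  obtain ⟨a, b, I, hIv, hIinj, ⟨eL⟩⟩ := hL
  haveI hIK : I.IsKInjective := DR.isKInjective_of_termwiseInjective (fun j hj => hIv j (Or.inl hj)) hIinj
  obtain ⟨P, q, hP, hPf, hq, -⟩ := KF.exists_kflat_resolution K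
  let tP := (tCx R).obj P
  let tI := (tCx R).obj I
  let fac := (tilde.functor R).mapDerivedCategoryFactors
  have := hasLTensorCx tP
  have := hasRSheafHom tP
  have htP : DCoh.IsKFlat tP := isKFlat_tilde R P ((KF.isKFlat_iff P).1 hP)
  have hbI : BddInj tI a b :=
    ⟨fun i => InjTilde20.injective_tilde _ (hIinj i), fun i hi => (tilde.functor R).map_isZero (hIv i hi)⟩
  haveI := hbI.isKInjective
  let eP : DerivedCategory.Q.obj tP ≅ (DCoh.tildeD R).obj (DRing.toD K) :=
    (fac.app P).symm ≪≫ (DCoh.tildeD R).mapIso (asIso (DerivedCategory.Q.map q))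
  have hcoh : DCoh.IsCohD (DerivedCategory.Q.obj tP) := fun i =>
    QCoh.isCoh_of_iso ((HDTildeIso (R := R) (DRing.toD K) i).symm ≪≫
      (DerivedCategory.homologyFunctor _ i).mapIso eP.symm)
      ((isCoh_tilde_iff (R := R) _).2 (hK i))
  have hqI : DCoh.IsQCohD (DerivedCategory.Q.obj tI) := fun i =>
    isQCoh_of_iso ((HDTildeIso (R := R) (DerivedCategory.Q.obj I) i).symm ≪≫
      (DerivedCategory.homologyFunctor _ i).mapIso (fac.app I)) (inferInstanceAs (((tilde.functor R).obj _).IsQuasicoherent))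
  obtain ⟨c⟩ := nonempty_RSheafHom_congr (e ≪≫ eP.symm)
  obtain ⟨v⟩ := nonempty_RSheafHom_value tP htP tI
  let J := (homCx tP).obj tI
  have hqJ : DCoh.IsQCohD (DerivedCategory.Q.obj J) := fun i =>
    isQCoh_of_iso ((DerivedCategory.homologyFunctor _ i).mapIso v) (isQCohD_RSheafHom_of_bddInj tP hcoh hbI hqI i)
  haveI : J.IsKInjective := isKInjective_homCx htP tI
  let adj := KInj.derivedAdj (tilde.adjunction (R := R))
  haveI := (tildeD_full_faithful_essImage (R := R)).1
  haveI := (tildeD_full_faithful_essImage (R := R)).2.1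
  obtain ⟨N, ⟨eN⟩⟩ := (tildeD_full_faithful_essImage (R := R)).2.2 _ hqJ
  let eN' := asIso (adj.unit.app N) ≪≫
    (KInj.res _ ⋙ (moduleSpecΓFunctor (R := R)).mapHomotopyCategory (ComplexShape.up ℤ) ⋙ DerivedCategory.Qh).mapIso eN
  let q' := HomotopyCategory.quotient (Spec R).Modules (ComplexShape.up ℤ)
  haveI : IsIso ((KInj.resAdj (Spec R).Modules).unit.app (q'.obj J)) :=
    KInj.isIso_unit_of_rightOrthogonal (CochainComplex.IsKInjective.rightOrthogonal J)
  let Γh := (moduleSpecΓFunctor (R := R)).mapHomotopyCategory (ComplexShape.up ℤ)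
  let eR : DerivedCategory.Qh.obj (Γh.obj ((KInj.res _).obj (DerivedCategory.Q.obj J))) ≅
      DerivedCategory.Q.obj (((moduleSpecΓFunctor (R := R)).mapHomologicalComplex (ComplexShape.up ℤ)).obj J) :=
    DerivedCategory.Qh.mapIso (Γh.mapIso
      ((KInj.res _).mapIso ((DerivedCategory.quotientCompQhIso _).app J).symm ≪≫
        (asIso ((KInj.resAdj (Spec R).Modules).unit.app (q'.obj J))).symm) ≪≫
      ((moduleSpecΓFunctor (R := R)).mapHomotopyCategoryFactors (ComplexShape.up ℤ)).app J) ≪≫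
    (DerivedCategory.quotientCompQhIso _).app _
  obtain ⟨s⟩ := nonempty_sections_homCx P I
  haveI := RH.quasiIso_homCxPre q I
  obtain ⟨r⟩ := RH.rHom_value K I
  exact ⟨(DCoh.RSheafHom E).mapIso ((DCoh.tildeD R).mapIso eL.symm ≪≫ fac.app I) ≪≫ c.app _ ≪≫ v ≪≫ eN.symm ≪≫
    (DCoh.tildeD R).mapIso (eN' ≪≫ eR ≪≫ DerivedCategory.Q.mapIso s ≪≫
      (asIso (DerivedCategory.Q.map (RH.homCxPre q I))).symm ≪≫ r.symm ≪≫ (DRing.RHomCx K).mapIso eL)⟩

end GrothLib.RHomInj22
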