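import Groth.Agent.Lib.OX.ProjCx

/-! # A functor commuting with bifunctors commutes with the tensor product of complexes -/

set_option autoImplicit false
universe v v' w w'

open CategoryTheory CategoryTheory.Limits HomologicalComplex

namespace GrothLib.TotalMap

variable {C : Type w} [Category.{v} C] [Preadditive C] {D : Type w'} [Category.{v'} D] [Preadditive D]
  (T : C ⥤ D) [T.Additive]
  [∀ J : Type, HasColimitsOfShape (Discrete J) C] [∀ J : Type, HasColimitsOfShape (Discrete J) D]
  [∀ J : Type, PreservesColimitsOfShape (Discrete J) T]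
  (F : C ⥤ C ⥤ C) [F.PreservesZeroMorphisms] [∀ a, (F.obj a).PreservesZeroMorphisms]
  (G : D ⥤ D ⥤ D) [G.PreservesZeroMorphisms] [∀ a, (G.obj a).PreservesZeroMorphisms]
  (e : ∀ M N, T.obj ((F.obj M).obj N) ≅ (G.obj (T.obj M)).obj (T.obj N))
  (e₁ : ∀ {M M' : C} (a : M ⟶ M') (N : C),
    T.map ((F.map a).app N) ≫ (e M' N).hom = (e M N).hom ≫ (G.map (T.map a)).app (T.obj N))
  (e₂ : ∀ (M : C) {N N' : C} (b : N ⟶ N'),
    T.map ((F.obj M).map b) ≫ (e M N').hom = (e M N).hom ≫ (G.obj (T.obj M)).map (T.map b))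

/-- The bicomplex of a bifunctor. -/
noncomputable abbrev bicx {E : Type*} [Category E] [Preadditive E] (F : E ⥤ E ⥤ E) [F.PreservesZeroMorphisms]
    [∀ a, (F.obj a).PreservesZeroMorphisms] (K L : CochainComplex E ℤ) :=
  ((F.mapBifunctorHomologicalComplex (ComplexShape.up ℤ) (ComplexShape.up ℤ)).obj K).obj L

/-- The comparison of the bicomplexes. -/
noncomputable def bicxIso (K L : CochainComplex C ℤ) :
    mapBicx T (bicx F K L) ≅ bicx G ((T.mapHomologicalComplex (ComplexShape.up ℤ)).obj K)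
      ((T.mapHomologicalComplex (ComplexShape.up ℤ)).obj L) :=
  HomologicalComplex.Hom.isoOfComponents
    (fun i => HomologicalComplex.Hom.isoOfComponents (fun j => e (K.X i) (L.X j))
      (fun j j' _ => (e₂ (K.X i) (L.d j j')).symm))
    (fun i i' _ => HomologicalComplex.hom_ext _ _ fun j => (e₁ (K.d i i') (L.X j)).symm)

/-- `T` commutes with the total complex of a bifunctor. -/
noncomputable def tensIso (K L : CochainComplex C ℤ) :
    (T.mapHomologicalComplex (ComplexShape.up ℤ)).obj (mapBifunctor K L F (ComplexShape.up ℤ)) ≅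
      mapBifunctor ((T.mapHomologicalComplex (ComplexShape.up ℤ)).obj K)
        ((T.mapHomologicalComplex (ComplexShape.up ℤ)).obj L) G (ComplexShape.up ℤ) :=
  (totalMapIso T _).symm ≪≫ HomologicalComplex₂.total.mapIso (bicxIso T F G e e₁ e₂ K L) (ComplexShape.up ℤ)

theorem tensIso_natural₁ {K K' : CochainComplex C ℤ} (φ : K ⟶ K') (L : CochainComplex C ℤ) :
    (T.mapHomologicalComplex (ComplexShape.up ℤ)).map (mapBifunctorMap φ (𝟙 L) F (ComplexShape.up ℤ)) ≫
        (tensIso T F G e e₁ e₂ K' L).hom =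
      (tensIso T F G e e₁ e₂ K L).hom ≫
        mapBifunctorMap ((T.mapHomologicalComplex (ComplexShape.up ℤ)).map φ)
          (𝟙 ((T.mapHomologicalComplex (ComplexShape.up ℤ)).obj L)) G (ComplexShape.up ℤ) := by
  refine HomologicalComplex.hom_ext _ _ fun n => ?_
  rw [← cancel_epi ((totalMapIso T (bicx F K L)).hom.f n)]
  refine HomologicalComplex₂.total.hom_ext _ fun p q h => ?_
  have hi : ∀ (K : CochainComplex C ℤ), (mapBicx T (bicx F K L)).ιTotal (ComplexShape.up ℤ) p q n h ≫
      (totalMapIso T (bicx F K L)).hom.f n = T.map ((bicx F K L).ιTotal (ComplexShape.up ℤ) p q n h) := fun K =>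
    HomologicalComplex₂.ι_totalDesc (K := mapBicx T (bicx F K L)) (c₁₂ := ComplexShape.up ℤ)
      (fun p q h => T.map ((bicx F K L).ιTotal (ComplexShape.up ℤ) p q n h)) p q h
  have hj : ∀ (K : CochainComplex C ℤ), T.map ((bicx F K L).ιTotal (ComplexShape.up ℤ) p q n h) ≫
      (tensIso T F G e e₁ e₂ K L).hom.f n = (e (K.X p) (L.X q)).hom ≫
        (bicx G ((T.mapHomologicalComplex (ComplexShape.up ℤ)).obj K)
          ((T.mapHomologicalComplex (ComplexShape.up ℤ)).obj L)).ιTotal (ComplexShape.up ℤ) p q n h := fun K => by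
    have hc : (totalMapIso T (bicx F K L)).hom.f n ≫ (tensIso T F G e e₁ e₂ K L).hom.f n =
        (HomologicalComplex₂.total.mapIso (bicxIso T F G e e₁ e₂ K L) (ComplexShape.up ℤ)).hom.f n := by
      rw [← HomologicalComplex.comp_f]
      exact congrArg (fun t => HomologicalComplex.Hom.f t n)
        ((totalMapIso T (bicx F K L)).hom_inv_id_assoc _)
    refine (congrArg (· ≫ _) (hi K).symm).trans ((Category.assoc _ _ _).trans ((congrArg (_ ≫ ·) hc).trans ?_))
    exact (HomologicalComplex₂.ιTotal_map _ _ _ _ _ _ _ h).trans rfl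
  simp only [HomologicalComplex.comp_f, Functor.mapHomologicalComplex_map_f]
  rw [reassoc_of% (hi K), reassoc_of% (hi K)]
  have h3 : (bicx F K L).ιTotal (ComplexShape.up ℤ) p q n h ≫
      (mapBifunctorMap φ (𝟙 L) F (ComplexShape.up ℤ)).f n =
        (F.map (φ.f p)).app (L.X q) ≫ (bicx F K' L).ιTotal (ComplexShape.up ℤ) p q n h := by
    refine (ι_mapBifunctorMap φ (𝟙 L) F (ComplexShape.up ℤ) p q n h).trans ?_
    simp [ιMapBifunctor]
    all_goals first | rfl | exact congrArg (_ ≫ ·) (Category.id_comp _)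
  refine ((Category.assoc _ _ _).symm.trans ((congrArg (· ≫ _) ((T.map_comp _ _).symm.trans ((congrArg T.map h3).trans (T.map_comp _ _)))).trans
    ((Category.assoc _ _ _).trans ((congrArg (_ ≫ ·) (hj K')).trans ((Category.assoc _ _ _).symm.trans
      ((congrArg (· ≫ _) (e₁ (φ.f p) (L.X q))).trans (Category.assoc _ _ _))))))).trans ?_
  refine Eq.trans ?_ ((Category.assoc _ _ _).symm.trans ((congrArg (· ≫ _) (hj K)).trans (Category.assoc _ _ _))).symm
  refine congrArg (_ ≫ ·) ?_
  symm
  refine (ι_mapBifunctorMap ((T.mapHomologicalComplex (ComplexShape.up ℤ)).map φ)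
    (𝟙 ((T.mapHomologicalComplex (ComplexShape.up ℤ)).obj L)) G (ComplexShape.up ℤ) p q n h).trans ?_
  simp [ιMapBifunctor]
  all_goals first | rfl | exact congrArg (_ ≫ ·) (Category.id_comp _)

end GrothLib.TotalMap
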