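import Groth.Agent.Lib.KSix19.TildeTensorCx
import Groth.Agent.Lib.RHomInj22.Coherent
import Groth.Agent.Lib.OX.RHomRestrict
import Groth.Agent.Lib.RHomInj22.TensorTotal
import Groth.Agent.Lib.DCxRHom.HomProps
import Groth.Agent.Lib.DCxRHom.Rep
import Groth.Agent.Lib.InjTilde20.Main

/-! # `RHom` of associated sheaves -/

set_option autoImplicit false
set_option maxHeartbeats 1000000
set_option backward.isDefEq.respectTransparency false
universe u

open CategoryTheory CategoryTheory.Limits MonoidalCategory AlgebraicGeometry HomologicalComplex GrothLib.OX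
  CochainComplex.HomComplex

attribute [local instance] HasDerivedCategory.standard

namespace GrothLib.RHomInj22

variable {R : CommRingCat.{u}}

/-- Tilde of complexes. -/
noncomputable abbrev tCx (R : CommRingCat.{u}) :
    CochainComplex (ModuleCat.{u} R) ℤ ⥤ CochainComplex (Spec R).Modules ℤ :=
  (tilde.functor R).mapHomologicalComplex (ComplexShape.up ℤ)

variable (R) in
/-- Tilde of a tensor product of complexes. -/
noncomputable def tildeTens (K L : CochainComplex (ModuleCat.{u} R) ℤ) :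
    (tCx R).obj (((KF.tensorCx (R := R)).obj K).obj L) ≅
      ((DCoh.tensorCx (X := Spec R)).obj ((tCx R).obj K)).obj ((tCx R).obj L) :=
  TotalMap.tensIso (tilde.functor R) (curriedTensor (ModuleCat.{u} R)) (DCoh.tensorBi (X := Spec R))
    (tildeTensorIso R) (fun a N => KSix19.tildeTensorIso_natural₁ R a N) (fun M _ _ b => KSix19.tildeTensorIso_natural₂ R M b) K L

theorem tildeTens_natural₁ {K K' : CochainComplex (ModuleCat.{u} R) ℤ} (φ : K ⟶ K')
    (L : CochainComplex (ModuleCat.{u} R) ℤ) :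
    (tCx R).map (((KF.tensorCx (R := R)).map φ).app L) ≫ (tildeTens R K' L).hom =
      (tildeTens R K L).hom ≫ (tensR ((tCx R).obj L)).map ((tCx R).map φ) :=
  TotalMap.tensIso_natural₁ _ _ _ _ _ _ φ L

variable {A : Type u} [CommRing A]

/-- Tensoring with a complex, on the module side. -/
noncomputable abbrev tensA (P : DRing.Cx A) : DRing.Cx A ⥤ DRing.Cx A := (KF.tensorCx (R := A)).flip.obj P

/-- Chain maps out of a tensor product of complexes. -/
noncomputable def tensHomEquiv (K P M : DRing.Cx A) : ((tensA P).obj K ⟶ M) ≃ (K ⟶ DRing.homCx P M) where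
  toFun f := Cocycle.homOf (Cocycle.mk ((RH.assocEquiv K P M 0).symm (Cochain.ofHom f)) 1 rfl (by
    apply (RH.assocEquiv K P M 1).injective
    rw [← RH.assocEquiv_δ' K P M 0 1 rfl, LinearEquiv.apply_symm_apply, δ_ofHom, map_zero]))
  invFun g := Cocycle.homOf (Cocycle.mk (RH.assocEquiv K P M 0 (Cochain.ofHom g)) 1 rfl (by
    rw [RH.assocEquiv_δ' K P M 0 1 rfl, δ_ofHom, map_zero]))
  left_inv f := by
    refine (Cochain.ofHom_injective ?_)
    rw [Cocycle.cochain_ofHom_homOf_eq_coe, Cocycle.mk_coe, Cocycle.cochain_ofHom_homOf_eq_coe, Cocycle.mk_coe,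
      LinearEquiv.apply_symm_apply]
  right_inv g := by
    refine (Cochain.ofHom_injective ?_)
    rw [Cocycle.cochain_ofHom_homOf_eq_coe, Cocycle.mk_coe, Cocycle.cochain_ofHom_homOf_eq_coe, Cocycle.mk_coe,
      LinearEquiv.symm_apply_apply]

theorem uncurry_natural {K K' : DRing.Cx A} (φ : K ⟶ K') (P M : DRing.Cx A) (g : K' ⟶ DRing.homCx P M) :
    (tensHomEquiv K P M).symm (φ ≫ g) = (tensA P).map φ ≫ (tensHomEquiv K' P M).symm g := by
  refine Cochain.ofHom_injective ?_
  rw [Cochain.ofHom_comp]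
  simp only [tensHomEquiv, Equiv.coe_fn_symm_mk, Cocycle.cochain_ofHom_homOf_eq_coe, Cocycle.mk_coe]
  refine RH.cochain_tens_ext K P M 0 fun s t hst p r h x y => ?_
  obtain rfl : s = t := by omega
  change ((RH.uncurryFun K P M 0 (Cochain.ofHom (φ ≫ g))).v s s hst) (RH.ιT K P p r s h (x ⊗ₜ y)) = _
  rw [RH.uncurryFun_v K P M 0 _ s s hst p r h p (add_zero p) x y, Cochain.zero_cochain_comp_v, Cochain.ofHom_v]
  have hι : ((tensA P).map φ).f s (RH.ιT K P p r s h (x ⊗ₜ y)) = RH.ιT K' P p r s h (φ.f p x ⊗ₜ y) := by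
    have h' : RH.ιT K P p r s h ≫ ((tensA P).map φ).f s =
        (φ.f p ▷ P.X r) ≫ RH.ιT K' P p r s h := by
      change ιMapBifunctor K P (curriedTensor (ModuleCat.{u} A)) (ComplexShape.up ℤ) p r s h ≫
        (mapBifunctorMap φ (𝟙 P) (curriedTensor (ModuleCat.{u} A)) (ComplexShape.up ℤ)).f s = _
      rw [ι_mapBifunctorMap, HomologicalComplex.id_f, CategoryTheory.Functor.map_id, Category.id_comp]
      rfl
    exact ConcreteCategory.congr_hom h' (x ⊗ₜ y)
  refine Eq.trans ?_ (congrArg ((RH.uncurryFun K' P M 0 (Cochain.ofHom g)).v s s hst) hι).symm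
  rw [RH.uncurryFun_v K' P M 0 _ s s hst p r h p (add_zero p) (φ.f p x) y]
  simp only [RH.bil, Cochain.ofHom_v, HomologicalComplex.comp_f]
  rfl

theorem curry_natural {K P M M' : DRing.Cx A} (f : (tensA P).obj K ⟶ M) (g : M ⟶ M') :
    tensHomEquiv K P M' (f ≫ g) = tensHomEquiv K P M f ≫ (DRing.homCxFunctor P).map g := by
  obtain ⟨f', rfl⟩ := (tensHomEquiv K P M).symm.surjective f
  rw [Equiv.apply_symm_apply, Equiv.apply_eq_iff_eq_symm_apply]
  refine Cochain.ofHom_injective ?_
  rw [Cochain.ofHom_comp]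
  simp only [tensHomEquiv, Equiv.coe_fn_symm_mk, Cocycle.cochain_ofHom_homOf_eq_coe, Cocycle.mk_coe]
  refine RH.cochain_tens_ext K P M' 0 fun s t hst p r h x y => ?_
  obtain rfl : t = s := by omega
  refine Eq.trans ?_ (RH.uncurryFun_v K P M' 0 _ t t hst p r h p (add_zero p) x y).symm
  rw [Cochain.zero_cochain_comp_v, Cochain.ofHom_v]
  refine (congrArg (g.f t) (RH.uncurryFun_v K P M 0 (Cochain.ofHom f') t t hst p r h p (add_zero p) x y)).trans ?_
  simp only [RH.bil, RH.vLin, Cochain.ofHom_v, HomologicalComplex.comp_f]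
  exact (ConcreteCategory.congr_hom (Cochain.comp_zero_cochain_v (f'.f p x) (Cochain.ofHom g) r t (by omega)) y).symm

/-- `- ⊗ P ⊣ Hom•(P, -)`. -/
noncomputable def tensAdj (P : DRing.Cx A) : tensA P ⊣ DRing.homCxFunctor P :=
  Adjunction.mkOfHomEquiv
    { homEquiv := fun K M => tensHomEquiv K P M
      homEquiv_naturality_left_symm := fun {K K' M} f g => uncurry_natural f P M g
      homEquiv_naturality_right := fun {K M M'} f g => curry_natural f g }


end GrothLib.RHomInj22
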