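import Groth.Agent.Lib.RHomInj22.Vanish

/-! # High cohomology of `RHom` into bounded injectives only sees an upper truncation of the source -/

set_option autoImplicit false
set_option maxHeartbeats 1000000
universe u

open CategoryTheory CategoryTheory.Limits CategoryTheory.Pretriangulated AlgebraicGeometry HomologicalComplex GrothLib.OX

attribute [local instance] HasDerivedCategory.standard

namespace GrothLib.RHomInj22

variable {X : Scheme.{u}}

/-- K-flat models of a truncation map. -/
theorem exists_trunc_model (C : CochainComplex X.Modules ℤ) (n : ℤ) :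
    ∃ (P Q : CochainComplex X.Modules ℤ) (g : P ⟶ Q), DCoh.IsKFlat P ∧ DCoh.IsKFlat Q ∧
      Nonempty (DerivedCategory.Q.obj Q ≅ DerivedCategory.Q.obj C) ∧
      (DerivedCategory.Q.obj P).IsLE (n - 1) ∧
      ∀ i, i < n → IsIso ((DerivedCategory.homologyFunctor X.Modules i).map (DerivedCategory.Q.map g)) := by
  let QC := DerivedCategory.Q.obj C
  let T := (DerivedCategory.TStructure.t.truncLT n).obj QC
  obtain ⟨Q, qQ, hQ, -, hqQ, -⟩ := exists_kflat_resolution C
  let eT := DerivedCategory.Q.objObjPreimageIso T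
  let φ : DerivedCategory.Q.obj (DerivedCategory.Q.objPreimage T) ⟶ DerivedCategory.Q.obj Q :=
    eT.hom ≫ (DerivedCategory.TStructure.t.truncLTι n).app QC ≫ inv (DerivedCategory.Q.map qQ)
  obtain ⟨Z, s, hs, g, hg⟩ := DerivedCategory.right_fac φ
  obtain ⟨P, qP, hP, -, hqP, -⟩ := exists_kflat_resolution Z
  let ι : DerivedCategory.Q.obj P ≅ T :=
    asIso (DerivedCategory.Q.map qP) ≪≫ @asIso _ _ _ _ (DerivedCategory.Q.map s) hs ≪≫ eT
  refine ⟨P, Q, qP ≫ g, hP, hQ, ⟨asIso (DerivedCategory.Q.map qQ)⟩, ?_, fun i hi => ?_⟩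
  · haveI : T.IsLE (n - 1) :=
      inferInstanceAs (DerivedCategory.TStructure.t.IsLE ((DerivedCategory.TStructure.t.truncLT n).obj QC) (n - 1))
    exact DerivedCategory.TStructure.t.isLE_of_iso ι.symm (n - 1)
  · haveI := DerTrunc.isIso_homology_truncLTι QC n i hi
    have : DerivedCategory.Q.map (qP ≫ g) =
        ι.hom ≫ (DerivedCategory.TStructure.t.truncLTι n).app QC ≫ inv (DerivedCategory.Q.map qQ) := by
      haveI := hs
      rw [Functor.map_comp]
      simp only [ι, Iso.trans_hom, asIso_hom, Category.assoc]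
      rw [show eT.hom ≫ (DerivedCategory.TStructure.t.truncLTι n).app QC ≫ inv (DerivedCategory.Q.map qQ) = φ from rfl,
        hg, IsIso.hom_inv_id_assoc]
    rw [this, Functor.map_comp, Functor.map_comp]
    exact IsIso.comp_isIso' inferInstance (IsIso.comp_isIso' inferInstance inferInstance)

/-- The cone of a truncation map has cohomology in degrees `≥ n`. -/
theorem isZero_homology_cone {P Q : CochainComplex X.Modules ℤ} (g : P ⟶ Q) {n : ℤ}
    (hP : (DerivedCategory.Q.obj P).IsLE (n - 1))
    (hg : ∀ i, i < n → IsIso ((DerivedCategory.homologyFunctor X.Modules i).map (DerivedCategory.Q.map g)))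
    (i : ℤ) (hi : i < n) : IsZero ((CochainComplex.mappingCone g).homology i) := by
  let T := DerivedCategory.Q.mapTriangle.obj (CochainComplex.mappingCone.triangle g)
  have hT : T ∈ distTriang _ := DerivedCategory.mappingCone_triangle_distinguished g
  let H := DerivedCategory.homologyFunctor X.Modules
  have hepi : Epi ((H i).map T.mor₁) := by haveI := hg i hi; exact inferInstanceAs (Epi ((H i).map (DerivedCategory.Q.map g)))
  have hmono : Mono ((H (i + 1)).map T.mor₁) := by
    by_cases h : i + 1 < n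
    · haveI := hg (i + 1) h; exact inferInstanceAs (Mono ((H (i + 1)).map (DerivedCategory.Q.map g)))
    · exact ⟨fun a b _ => (DerivedCategory.isZero_of_isLE (DerivedCategory.Q.obj P) (n - 1) (i + 1) (by omega)).eq_of_tgt a b⟩
  have h2 := (DerivedCategory.HomologySequence.epi_homologyMap_mor₁_iff _ hT i).1 hepi
  have h3 := (DerivedCategory.HomologySequence.mono_homologyMap_mor₁_iff _ hT i (i + 1) rfl).1 hmono
  exact ((DerivedCategory.HomologySequence.exact₃ _ hT i (i + 1) rfl).isZero_X₂ h2 h3).of_iso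
    ((DerivedCategory.homologyFunctorFactors X.Modules i).app _).symm

/-- **Cohomology of `RHom(C, I)` in degree `> b - n` is that of `RHom` out of the shifted truncation.** -/
theorem exists_iso_HD_RSheafHom_trunc (C : CochainComplex X.Modules ℤ) [DCoh.HasLTensorCx C] [DCoh.HasRSheafHom C]
    (I : CochainComplex X.Modules ℤ) [I.IsKInjective] {b : ℤ} (hI : ∀ i, b < i → IsZero (I.X i)) (n j : ℤ)
    (hj : b - n < j) :
    ∃ (P : CochainComplex X.Modules ℤ) (_ : DCoh.HasLTensorCx P) (_ : DCoh.HasRSheafHom P),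
      (DerivedCategory.Q.obj P).IsLE n ∧
      (∀ i, IsZero (DCoh.HD (DerivedCategory.Q.obj P) i) ∨
        Nonempty (DCoh.HD (DerivedCategory.Q.obj P) i ≅ DCoh.HD (DerivedCategory.Q.obj C) (i + 1))) ∧
      Nonempty (DCoh.HD ((DCoh.RSheafHom C).obj (DerivedCategory.Q.obj I)) j ≅
        DCoh.HD ((DCoh.RSheafHom P).obj (DerivedCategory.Q.obj I)) (j + 1)) := by
  obtain ⟨P, Q, g, hP, hQ, ⟨eQ⟩, hPle, hg⟩ := exists_trunc_model C n
  let P' := P⟦(1 : ℤ)⟧
  let M := CochainComplex.mappingCone g
  have := hasLTensorCx P'; have := hasRSheafHom P'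
  have := hasLTensorCx M; have := hasRSheafHom M
  have := hasLTensorCx Q; have := hasRSheafHom Q
  let eP : DerivedCategory.Q.obj P' ≅ (DerivedCategory.Q.obj P)⟦(1 : ℤ)⟧ := (DerivedCategory.Q.commShiftIso (1 : ℤ)).app P
  have hle : (DerivedCategory.Q.obj P').IsLE (n - 2) := by
    haveI : ((DerivedCategory.Q.obj P)⟦(1 : ℤ)⟧).IsLE (n - 2) :=
      DerivedCategory.TStructure.t.isLE_shift _ (n - 1) 1 (n - 2) (by omega)
    exact DerivedCategory.TStructure.t.isLE_of_iso eP.symm (n - 2)
  refine ⟨P', inferInstance, inferInstance, (DerivedCategory.TStructure.t.isLE_of_le _ (n - 2) n (by omega)), fun i => ?_, ?_⟩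
  · let t : DCoh.HD (DerivedCategory.Q.obj P') i ≅ DCoh.HD (DerivedCategory.Q.obj P) (i + 1) :=
      (DerivedCategory.homologyFunctor _ i).mapIso eP ≪≫
        ((DerivedCategory.homologyFunctor X.Modules 0).shiftIso (1 : ℤ) i (i + 1) (by omega)).app _
    by_cases h : i + 1 < n
    · haveI := hg (i + 1) h
      exact Or.inr ⟨t ≪≫ asIso ((DerivedCategory.homologyFunctor X.Modules (i + 1)).map (DerivedCategory.Q.map g)) ≪≫
        (DerivedCategory.homologyFunctor _ (i + 1)).mapIso eQ⟩
    · exact Or.inl ((DerivedCategory.isZero_of_isLE (DerivedCategory.Q.obj P) (n - 1) (i + 1) (by omega)).of_iso t)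
  · let S := coneShortComplex g
    let T := DerivedCategory.triangleOfSES (homSeq_shortExact (coneSplitting g) I)
    have hT : T ∈ distTriang _ := homTriangle_distinguished (coneSplitting g) I
    obtain ⟨v₁⟩ := nonempty_RSheafHom_value P' (isKFlat_shift hP 1) I
    obtain ⟨v₂⟩ := nonempty_RSheafHom_value M (isKFlat_mappingCone g hP hQ) I
    obtain ⟨v₃⟩ := nonempty_RSheafHom_value Q hQ I
    obtain ⟨c⟩ := nonempty_RSheafHom_congr eQ.symm
    have hz : ∀ k, b - n < k → IsZero ((DerivedCategory.homologyFunctor X.Modules k).obj T.obj₂) := fun k hk =>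
      (isZero_HD_RSheafHom_of_gt M (isZero_homology_cone g hPle hg) I hI k hk).of_iso
        ((DerivedCategory.homologyFunctor _ k).mapIso v₂.symm)
    have hTr : T.rotate ∈ distTriang _ := rot_of_distTriang _ hT
    have hiso := DerTrunc.isIso_homology_mor₂ hTr j (hz j hj) (hz (j + 1) (by omega))
    exact ⟨(DerivedCategory.homologyFunctor _ j).mapIso (c.app _ ≪≫ v₃) ≪≫
      @asIso _ _ _ _ _ hiso ≪≫
      ((DerivedCategory.homologyFunctor X.Modules 0).shiftIso (1 : ℤ) j (j + 1) (by omega)).app T.obj₁ ≪≫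
      (DerivedCategory.homologyFunctor _ (j + 1)).mapIso v₁.symm⟩

end GrothLib.RHomInj22
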