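import Groth.Agent.Lib.OX.HomAmplitude
import Groth.Agent.Lib.OX.HomTri
import Groth.Agent.Lib.OX.TildeD
import Groth.Agent.Lib.OX.ClosedPush

/-! # Vanishing of `RHom` into bounded complexes of injectives -/

set_option autoImplicit false
set_option maxHeartbeats 1000000
universe u

open CategoryTheory CategoryTheory.Limits CategoryTheory.Pretriangulated AlgebraicGeometry HomologicalComplex GrothLib.OX

attribute [local instance] HasDerivedCategory.standard

namespace GrothLib.RHomInj22

variable {X : Scheme.{u}}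

/-- Maps into a complex in degrees `≤ b` from one with cohomology in degrees `≥ m > b` vanish. -/
theorem hom_eq_zero {T I : CochainComplex X.Modules ℤ} [I.IsKInjective] {b m : ℤ} (hI : ∀ i, b < i → IsZero (I.X i))
    (hT : ∀ i, i < m → IsZero (T.homology i)) (hbm : b < m) (f : DerivedCategory.Q.obj T ⟶ DerivedCategory.Q.obj I) :
    f = 0 := by
  haveI : T.IsGE m := (T.isGE_iff m).2 fun i hi => (T.exactAt_iff_isZero_homology i).2 (hT i hi)
  haveI : QuasiIso (T.πTruncGE m) := inferInstance
  haveI : IsIso (DerivedCategory.Q.map (T.πTruncGE m)) := inferInstance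
  obtain ⟨c, hc⟩ := Q_map_surjective (inv (DerivedCategory.Q.map (T.πTruncGE m)) ≫ f)
  have : c = 0 := HomologicalComplex.hom_ext _ _ fun i => by
    by_cases hi : b < i
    · exact (hI i hi).eq_of_tgt _ _
    · exact (CochainComplex.isZero_of_isStrictlyGE (T.truncGE m) m i (by omega)).eq_of_src _ _
  rw [← cancel_epi (inv (DerivedCategory.Q.map (T.πTruncGE m))), comp_zero, ← hc, this, Functor.map_zero]

/-- A generator tensored with a complex whose cohomology is bounded below, placed in degree `j`. -/
theorem exists_tensor_gen (C : CochainComplex X.Modules ℤ) [DCoh.HasLTensorCx C] {n : ℤ}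
    (hC : ∀ i, i < n → IsZero (C.homology i)) (W : X.Opens) (j : ℤ) :
    ∃ T : CochainComplex X.Modules ℤ, (∀ i, i < n + j → IsZero (T.homology i)) ∧
      Nonempty ((DCoh.LTensorCx C).obj
        (DerivedCategory.Q.obj ((single X.Modules (ComplexShape.up ℤ) j).obj ((genF X).obj W))) ≅
          DerivedCategory.Q.obj T) := by
  let G := (genF X).obj W
  have hG : FlatMod.IsFlat G := flat_of_iso (genIsoGenF W) (flat_gen W)
  let F := (DCoh.tensorBi (X := X)).flip.obj G
  haveI : F.PreservesHomology := (F.exact_tfae.out 2 0).2 fun S hS => tensor_map_shortExact hG hS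
  let T₀ := (F.mapHomologicalComplex (ComplexShape.up ℤ)).obj C
  refine ⟨T₀⟦-j⟧, fun i hi => ?_, ?_⟩
  · refine IsZero.of_iso ?_ (((HomologicalComplex.homologyFunctor X.Modules (ComplexShape.up ℤ) 0).shiftIso (-j) i (i - j) (by omega)).app T₀)
    change IsZero (T₀.homology (i - j))
    exact (F.map_isZero (hC (i - j) (by omega))).of_iso ((C.sc (i - j)).mapHomologyIso F)
  · obtain ⟨v⟩ := ltensorCx_value C _ (isKFlat_single G hG j)
    let tC := (DCoh.tensorCx (X := X)).obj C
    exact ⟨v ≪≫ DerivedCategory.Q.mapIso ((tensorFlipIso C).app _ ≪≫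
      tC.mapIso (((CochainComplex.singleFunctors X.Modules).shiftIso (-j) j 0 (by omega)).app G).symm ≪≫
      (tC.commShiftIso (-j)).app _ ≪≫ (shiftFunctor _ (-j)).mapIso (singleIso C G).symm)⟩

/-- **`RHom` out of `D^{≥ n}` into a complex of injectives in degrees `≤ b` lies in degrees `≤ b - n`.** -/
theorem isZero_HD_RSheafHom_of_gt (C : CochainComplex X.Modules ℤ) [DCoh.HasLTensorCx C] [DCoh.HasRSheafHom C] {n : ℤ}
    (hC : ∀ i, i < n → IsZero (C.homology i)) (I : CochainComplex X.Modules ℤ) [I.IsKInjective] {b : ℤ}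
    (hI : ∀ i, b < i → IsZero (I.X i)) (j : ℤ) (hj : b - n < j) :
    IsZero (DCoh.HD ((DCoh.RSheafHom C).obj (DerivedCategory.Q.obj I)) j) := by
  let R := (DCoh.RSheafHom C).obj (DerivedCategory.Q.obj I)
  obtain ⟨J, q, hq, hJ, -⟩ := KInj.exists_kInjective_resolution (A := X.Modules) (DerivedCategory.Q.objPreimage R)
  haveI := hq; haveI := hJ
  let e : R ≅ DerivedCategory.Q.obj J :=
    (DerivedCategory.Q.objObjPreimageIso R).symm ≪≫ asIso (DerivedCategory.Q.map q)
  have key : ∀ (W : X.Opens) (g : (genF X).obj W ⟶ J.X j), g ≫ J.d j (j + 1) = 0 →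
      ∃ a : (genF X).obj W ⟶ J.X (j - 1), a ≫ J.d (j - 1) j = g := by
    intro W g hg
    let S := (single X.Modules (ComplexShape.up ℤ) j).obj ((genF X).obj W)
    let c : S ⟶ J := HomologicalComplex.mkHomFromSingle g (fun l hl => by
      obtain rfl : j + 1 = l := hl
      exact hg)
    obtain ⟨T, hT, ⟨t⟩⟩ := exists_tensor_gen C hC W j
    have h0 : ∀ ψ : DerivedCategory.Q.obj S ⟶ R, ψ = 0 := fun ψ => by
      have hz : ∀ ω : (DCoh.LTensorCx C).obj (DerivedCategory.Q.obj S) ⟶ DerivedCategory.Q.obj I, ω = 0 := fun ω => by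
        rw [← cancel_epi t.inv, comp_zero]
        exact hom_eq_zero hI hT (by omega) _
      apply ((DCoh.RSheafHomAdj C).homEquiv _ _).symm.injective
      exact (hz _).trans (hz _).symm
    obtain ⟨h⟩ := nonempty_homotopy_of_Q_map_eq_zero (c := c) (by
      rw [← cancel_mono e.inv, zero_comp]
      exact h0 _)
    refine ⟨(singleObjXSelf (ComplexShape.up ℤ) j _).inv ≫ h.hom j (j - 1), ?_⟩
    have hc := h.comm j
    rw [dNext_eq _ (show (ComplexShape.up ℤ).Rel j (j + 1) from rfl), prevD_eq _ (show (ComplexShape.up ℤ).Rel (j - 1) j by simp)] at hc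
    rw [show S.d j (j + 1) = 0 from HomologicalComplex.single_obj_d _ _ _ _ _, zero_comp, zero_add,
      HomologicalComplex.zero_f, add_zero] at hc
    rw [Category.assoc, ← hc]
    simp [c]
  have hex : J.ExactAt j := by
    rw [J.exactAt_iff_isZero_homology]
    refine @IsZero.of_epi_eq_zero _ _ _ _ _ (J.homologyπ j) inferInstance ?_
    refine Scheme.Modules.hom_ext _ _ fun W => ?_
    ext s
    let g := (genSec (J.cycles j) W).symm s
    have hgs : genSec _ W (g ≫ J.homologyπ j) = (J.homologyπ j).app W s := by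
      rw [genSec_comp]; exact congrArg _ (Equiv.apply_symm_apply _ _)
    obtain ⟨a, ha⟩ := key W (g ≫ J.iCycles j) (by simp)
    have : g = a ≫ J.toCycles (j - 1) j := by
      rw [← cancel_mono (J.iCycles j), ← ha]
      simp
    rw [this, Category.assoc, J.toCycles_comp_homologyπ, comp_zero] at hgs
    rw [← hgs]
    exact ((genSecAdd (J.homology j) W).map_zero).trans rfl
  exact ((J.exactAt_iff_isZero_homology j).1 hex).of_iso
    (((DerivedCategory.homologyFunctor _ j).mapIso e) ≪≫ (DerivedCategory.homologyFunctorFactors _ j).app J)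

end GrothLib.RHomInj22
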